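import Groth.Prelude.Def_W4c3dlvarstrshPar
import Mathlib

/-!
# A triangular order on the flags for the standard parabolic subgroups of `GL_{m+1}`
-/

set_option autoImplicit false

open Matrix Finset

namespace Groth.Agent.ParabolicComplexLib

open W4c3dlvarstrsh

variable {F : Type*} [Field F] {m : ℕ}

theorem blockOf_mono (J : Finset (Fin m)) {j i : Fin (m + 1)} (h : j ≤ i) :
    blockOf J j ≤ blockOf J i := by
  refine Finset.card_le_card fun k hk => ?_
  simp only [mem_filter, mem_univ, true_and] at hk ⊢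
  exact ⟨lt_of_lt_of_le hk.1 h, hk.2⟩

theorem blockOf_lt_iff (J : Finset (Fin m)) (j i : Fin (m + 1)) :
    blockOf J j < blockOf J i ↔ ∃ k : Fin m, j.val ≤ k.val ∧ k.val < i.val ∧ k ∉ J := by
  constructor
  · intro h
    by_contra hno
    push Not at hno
    refine h.not_ge (Finset.card_le_card fun k hk => ?_)
    simp only [mem_filter, mem_univ, true_and] at hk ⊢
    by_contra hkj
    exact hk.2 (hno k (by
      by_contra hle
      exact hkj ⟨by omega, hk.2⟩) hk.1)
  · rintro ⟨k, h1, h2, h3⟩
    refine Finset.card_lt_card ⟨fun l hl => ?_, fun hsub => ?_⟩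
    · simp only [mem_filter, mem_univ, true_and] at hl ⊢
      exact ⟨by omega, hl.2⟩
    · have := hsub (mem_filter.2 ⟨mem_univ k, h2, h3⟩)
      simp only [mem_filter, mem_univ, true_and] at this
      omega

theorem blockOf_empty (i : Fin (m + 1)) : blockOf (∅ : Finset (Fin m)) i = i.val := by
  unfold blockOf
  rw [show (univ.filter fun k : Fin m => k.val < i.val ∧ k ∉ (∅ : Finset (Fin m))) =
    univ.filter fun k : Fin m => k.val < i.val by ext; simp]
  rw [Fin.card_filter_val_lt, Nat.min_eq_right (Nat.lt_succ_iff.1 i.isLt)]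

theorem parabolic_mono {J J' : Finset (Fin m)} (h : J ⊆ J') : parabolic F J ≤ parabolic F J' := by
  intro g hg i j hij
  obtain ⟨k, h1, h2, h3⟩ := (blockOf_lt_iff J' j i).1 hij
  exact hg ((blockOf_lt_iff J j i).2 ⟨k, h1, h2, fun hk => h3 (h hk)⟩)

/-- The pivot of a column: the largest row index with a non-zero entry. -/
noncomputable def piv (g : GL (Fin (m + 1)) F) (j : Fin (m + 1)) : Fin (m + 1) := by
  classical exact (univ.filter fun i => g.1 i j ≠ 0).sup id

theorem exists_ne_zero (g : GL (Fin (m + 1)) F) (j : Fin (m + 1)) : ∃ i, g.1 i j ≠ 0 := by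
  by_contra h
  push Not at h
  exact (isUnit_iff_ne_zero.1 ((isUnit_iff_isUnit_det _).1 g.isUnit)) (det_eq_zero_of_column_eq_zero j h)

theorem piv_spec (g : GL (Fin (m + 1)) F) (j : Fin (m + 1)) : g.1 (piv g j) j ≠ 0 := by
  classical
  obtain ⟨i, hi, h⟩ := Finset.exists_mem_eq_sup (univ.filter fun i => g.1 i j ≠ 0)
    ((exists_ne_zero g j).imp fun i hi => mem_filter.2 ⟨mem_univ i, hi⟩) id
  have e : piv g j = i := h
  rw [e]
  exact (mem_filter.1 hi).2

theorem le_piv (g : GL (Fin (m + 1)) F) {i j : Fin (m + 1)} (h : g.1 i j ≠ 0) : i ≤ piv g j := by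
  classical
  exact Finset.le_sup (f := id) (mem_filter.2 ⟨mem_univ i, h⟩)

theorem piv_eq (g : GL (Fin (m + 1)) F) {t j : Fin (m + 1)} (ht : g.1 t j ≠ 0)
    (h : ∀ i, g.1 i j ≠ 0 → i ≤ t) : piv g j = t :=
  le_antisymm (h _ (piv_spec g j)) (le_piv g ht)

/-- A representative is reduced if its pivots are distinct. -/
def Reduced (g : GL (Fin (m + 1)) F) : Prop := Function.Injective (piv g)

theorem exists_reduced [Finite F] (g : GL (Fin (m + 1)) F) :
    ∃ b ∈ parabolic F (∅ : Finset (Fin m)), Reduced (g * b) := by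
  classical
  obtain ⟨⟨b, hb⟩, hmin⟩ := Finite.exists_min
    fun b : parabolic F (∅ : Finset (Fin m)) => ∑ j, (piv (g * b.1) j).val
  refine ⟨b, hb, ?_⟩
  by_contra hne
  obtain ⟨i, j, hij, hne'⟩ := Function.not_injective_iff.1 hne
  wlog hlt : i < j generalizing i j
  · exact this j i hij.symm (Ne.symm hne') (lt_of_le_of_ne (not_lt.1 hlt) (Ne.symm hne'))
  set M := g * b with hM
  set p := piv M j with hp
  have hMi : M.1 p i ≠ 0 := hij ▸ piv_spec M i
  let c := -(M.1 p j / M.1 p i)
  let u : GL (Fin (m + 1)) F := GeneralLinearGroup.mkOfDetNeZero (transvection i j c)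
    (by rw [det_transvection_of_ne _ _ hne']; exact one_ne_zero)
  have hu : u ∈ parabolic F (∅ : Finset (Fin m)) := by
    intro a a' ha
    rw [blockOf_empty, blockOf_empty] at ha
    show transvection i j c a a' = 0
    have h1 : a ≠ a' := fun h => by subst h; omega
    have h2 : ¬ (i = a ∧ j = a') := fun ⟨h3, h4⟩ => by subst h3; subst h4; omega
    simp [transvection, Matrix.single, h1, h2]
  have h1 : ∀ a, (M * u).1 a j = M.1 a j + c * M.1 a i := fun a =>
    mul_transvection_apply_same i j a c M.1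
  have h2 : ∀ l, l ≠ j → piv (M * u) l = piv M l := fun l hl => by
    have h3 : ∀ a, (M * u).1 a l = M.1 a l := fun a => mul_transvection_apply_of_ne i j a l hl c M.1
    exact piv_eq _ (by rw [h3]; exact piv_spec M l) fun a ha => le_piv M (by rw [← h3]; exact ha)
  have h4 : piv (M * u) j < p := by
    have hzero : (M * u).1 p j = 0 := by
      rw [h1]
      simp only [c]
      field_simp
      ring
    refine lt_of_le_of_ne ?_ fun h => piv_spec (M * u) j (h ▸ hzero)
    have h5 := piv_spec (M * u) j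
    rw [h1] at h5
    by_contra hle
    refine h5 ?_
    have ha : M.1 (piv (M * u) j) j = 0 := by
      by_contra hne0
      exact hle (le_piv M hne0)
    have hb' : M.1 (piv (M * u) j) i = 0 := by
      by_contra hne0
      exact hle (hij ▸ le_piv M hne0)
    rw [ha, hb', mul_zero, add_zero]
  have h6 := hmin ⟨b * u, Subgroup.mul_mem _ hb hu⟩
  simp only [← mul_assoc] at h6
  refine h6.not_gt (Finset.sum_lt_sum (fun l _ => ?_) ⟨j, mem_univ j, h4⟩)
  by_cases hl : l = j
  · subst hl; exact le_of_lt h4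
  · exact le_of_eq (congrArg Fin.val (h2 l hl))

theorem key {J : Finset (Fin m)} {g p : GL (Fin (m + 1)) F} (hp : p ∈ parabolic F J)
    (hg : Reduced g) (hgp : Reduced (g * p)) :
    ∃ σ : Equiv.Perm (Fin (m + 1)), (∀ j, piv (g * p) j = piv g (σ j)) ∧
      (∀ j, blockOf J (σ j) = blockOf J j) ∧ ∀ i j, p.1 i j ≠ 0 → piv g i ≤ piv g (σ j) := by
  classical
  have h : ∀ j, ∃ i, p.1 i j ≠ 0 ∧ ∀ i', p.1 i' j ≠ 0 → piv g i' ≤ piv g i := fun j => by
    obtain ⟨i, hi, hmax⟩ := Finset.exists_max_image (univ.filter fun i => p.1 i j ≠ 0) (piv g)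
      ((exists_ne_zero p j).imp fun i hi => mem_filter.2 ⟨mem_univ i, hi⟩)
    exact ⟨i, (mem_filter.1 hi).2, fun i' hi' => hmax i' (mem_filter.2 ⟨mem_univ i', hi'⟩)⟩
  choose s hs hmax using h
  have hpiv : ∀ j, piv (g * p) j = piv g (s j) := fun j => by
    have hsum : ∀ a, (g * p).1 a j = ∑ i, g.1 a i * p.1 i j := fun a => Matrix.mul_apply
    refine piv_eq _ ?_ fun a ha => ?_
    · rw [hsum, Finset.sum_eq_single (s j)]
      · exact mul_ne_zero (piv_spec g _) (hs j)
      · intro i _ hi
        by_contra h0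
        obtain ⟨h1, h2⟩ := mul_ne_zero_iff.1 h0
        exact hi (hg (le_antisymm (hmax j i h2) (le_piv g h1)))
      · exact fun h => absurd (mem_univ _) h
    · rw [hsum] at ha
      obtain ⟨i, -, hi⟩ := Finset.exists_ne_zero_of_sum_ne_zero ha
      obtain ⟨h1, h2⟩ := mul_ne_zero_iff.1 hi
      exact (le_piv g h1).trans (hmax j i h2)
  have hsinj : Function.Injective s := fun a b hab => hgp (by rw [hpiv, hpiv, hab])
  let σ : Equiv.Perm (Fin (m + 1)) := Equiv.ofBijective s (Finite.injective_iff_bijective.1 hsinj)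
  refine ⟨σ, hpiv, fun j => ?_, fun i j hij => hmax j i hij⟩
  have hle : ∀ j ∈ (univ : Finset (Fin (m + 1))), blockOf J (s j) ≤ blockOf J j := fun j _ => by
    by_contra hlt
    exact hs j (hp (not_le.1 hlt))
  exact (Finset.sum_eq_sum_iff_of_le hle).1 (Equiv.sum_comp σ (blockOf J)) j (mem_univ j)

variable [Finite F]

/-- A reduced representative of `g B`. -/
noncomputable def red (g : GL (Fin (m + 1)) F) : GL (Fin (m + 1)) F :=
  g * (exists_reduced g).choose

theorem red_reduced (g : GL (Fin (m + 1)) F) : Reduced (red g) := (exists_reduced g).choose_spec.2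

theorem red_mem (g : GL (Fin (m + 1)) F) : g⁻¹ * red g ∈ parabolic F (∅ : Finset (Fin m)) := by
  simp only [red, inv_mul_cancel_left]
  exact (exists_reduced g).choose_spec.1

/-- The permutation attached to the flag of `g`. -/
noncomputable def perm (g : GL (Fin (m + 1)) F) : Fin (m + 1) → Fin (m + 1) := piv (red g)

theorem perm_of_reduced {g h : GL (Fin (m + 1)) F} (hh : Reduced h)
    (hgh : g⁻¹ * h ∈ parabolic F (∅ : Finset (Fin m))) : perm g = piv h := by
  have hp : (red g)⁻¹ * h ∈ parabolic F (∅ : Finset (Fin m)) := by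
    have := Subgroup.mul_mem _ (Subgroup.inv_mem _ (red_mem g)) hgh
    rwa [_root_.mul_inv_rev, inv_inv, mul_assoc, mul_inv_cancel_left] at this
  obtain ⟨σ, h1, h2, -⟩ := key hp (red_reduced g) (by rwa [mul_inv_cancel_left])
  funext j
  rw [mul_inv_cancel_left] at h1
  have hσ : σ j = j := Fin.ext (by simpa [blockOf_empty] using h2 j)
  rw [h1 j, hσ, perm]

/-- The statistic of a flag. -/
noncomputable def Ψ (g : GL (Fin (m + 1)) F) : ℕ := ∑ j, j.val * (perm g j).val

/-- The ascents of a flag. -/
noncomputable def asc (g : GL (Fin (m + 1)) F) : Finset (Fin m) :=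
  univ.filter fun k => perm g k.castSucc < perm g k.succ

theorem perm_lt {g : GL (Fin (m + 1)) F} {j i : Fin (m + 1)} (hji : j < i)
    (hb : blockOf (asc g) j = blockOf (asc g) i) : perm g j < perm g i := by
  induction hd : i.val - j.val generalizing j with
  | zero => omega
  | succ d ih =>
    have hjm : j.val < m := by omega
    let k : Fin m := ⟨j.val, hjm⟩
    have hk : k ∈ asc g := by
      by_contra hk
      exact hb.not_lt ((blockOf_lt_iff _ j i).2 ⟨k, le_rfl, hji, hk⟩)
    have h1 : perm g j < perm g k.succ := (mem_filter.1 hk).2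
    rcases eq_or_lt_of_le (show k.succ ≤ i from hji) with h | h
    · rwa [h] at h1
    · refine h1.trans (ih h (le_antisymm (blockOf_mono _ h.le) ?_) ?_)
      · rw [← hb]
        exact blockOf_mono _ (Nat.le_succ j.val)
      · simp only [Fin.val_succ, k]
        omega

theorem Ψ_lt {g h : GL (Fin (m + 1)) F} (hp : g⁻¹ * h ∈ parabolic F (asc g))
    (hne : g⁻¹ * h ∉ parabolic F (∅ : Finset (Fin m))) : Ψ h < Ψ g := by
  classical
  set J := asc g with hJ
  have hB := parabolic_mono (F := F) (Finset.empty_subset J)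
  have hq : (red g)⁻¹ * red h ∈ parabolic F J := by
    have := Subgroup.mul_mem _ (Subgroup.mul_mem _ (Subgroup.inv_mem _ (hB (red_mem g))) hp)
      (hB (red_mem h))
    rwa [show (g⁻¹ * red g)⁻¹ * (g⁻¹ * h) * (h⁻¹ * red h) = (red g)⁻¹ * red h by group] at this
  have hqne : (red g)⁻¹ * red h ∉ parabolic F (∅ : Finset (Fin m)) := fun hq' => hne (by
    have := Subgroup.mul_mem _ (Subgroup.mul_mem _ (red_mem g) hq') (Subgroup.inv_mem _ (red_mem h))
    rwa [show g⁻¹ * red g * ((red g)⁻¹ * red h) * (h⁻¹ * red h)⁻¹ = g⁻¹ * h by group] at this)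
  set q := (red g)⁻¹ * red h with hq0
  obtain ⟨σ, h1, h2, h3⟩ := key hq (red_reduced g) (by rw [hq0, mul_inv_cancel_left]; exact red_reduced h)
  rw [hq0, mul_inv_cancel_left] at h1
  let K : Fin (m + 1) → ℕ := fun j => blockOf J j * (m + 1) + (perm g j).val
  have hK : StrictMono K := fun a b hab => by
    have hpa := (perm g a).isLt
    rcases (blockOf_mono J hab.le).eq_or_lt with h | h
    · have : (perm g a).val < (perm g b).val := perm_lt hab h
      simp only [K, h]; omega
    · have := Nat.mul_le_mul_right (m + 1) (show blockOf J a + 1 ≤ blockOf J b from h)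
      rw [add_mul, one_mul] at this
      simp only [K]; omega
  have hσ : σ ≠ 1 := fun hσ => hqne fun i j hij => by
    rw [blockOf_empty, blockOf_empty] at hij
    by_contra hne0
    have h4 : blockOf J i ≤ blockOf J j := not_lt.1 fun hlt => hne0 (hq hlt)
    have h5 := perm_lt (show j < i from hij) (le_antisymm (blockOf_mono J hij.le) h4)
    have h6 := h3 i j hne0
    rw [hσ] at h6
    exact h5.not_ge h6
  have hmono : Monovary (fun j : Fin (m + 1) => j.val) K := fun a b hab => by
    exact (hK.lt_iff_lt.1 hab).le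
  have hlt : ∑ j, j.val * K (σ j) < ∑ j, j.val * K j := by
    refine hmono.sum_mul_comp_perm_lt_sum_mul_iff.2 fun hm => hσ ?_
    have hs : StrictMono (σ : Fin (m + 1) → Fin (m + 1)) := fun a b hab => by
      by_contra hle
      have hlt' : σ b < σ a := lt_of_le_of_ne (not_lt.1 hle) (fun e => hab.ne' (σ.injective e))
      exact (not_le.2 hab) (hm (hK hlt'))
    ext x
    have := hs.id_le x
    have hx := hs.le_id x
    exact congrArg Fin.val (le_antisymm hx this)
  simp only [K, mul_add, Finset.sum_add_distrib, h2] at hlt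
  have hh : ∀ j, perm h j = perm g (σ j) := h1
  simp only [Ψ, hh]
  omega

theorem exists_lt_of_not_subset {g : GL (Fin (m + 1)) F} {J : Finset (Fin m)} (hJ : ¬ J ⊆ asc g) :
    ∃ p ∈ parabolic F J, Ψ g < Ψ (g * p) := by
  classical
  obtain ⟨k, hkJ, hk⟩ := Finset.not_subset.1 hJ
  let τ : Equiv.Perm (Fin (m + 1)) := Equiv.swap k.castSucc k.succ
  let s : GL (Fin (m + 1)) F := GeneralLinearGroup.mkOfDetNeZero (τ.permMatrix F) (by
    rw [det_permutation]
    rcases Int.units_eq_one_or (Equiv.Perm.sign τ) with h | h <;> simp [h])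
  have hs : s ∈ parabolic F J := by
    intro i j hij
    show τ.permMatrix F i j = 0
    by_contra h0
    have hτ : τ i = j := by
      by_contra h1
      exact h0 (by simp [Equiv.Perm.permMatrix, PEquiv.toMatrix_apply, h1])
    obtain ⟨l, hl1, hl2, hl3⟩ := (blockOf_lt_iff J j i).1 hij
    subst hτ
    rcases eq_or_ne i k.succ with rfl | hi1
    · simp only [τ, Equiv.swap_apply_right, Fin.val_castSucc, Fin.val_succ] at hl1 hl2
      exact hl3 ((Fin.ext (by omega) : l = k) ▸ hkJ)
    · rcases eq_or_ne i k.castSucc with rfl | hi2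
      · simp only [τ, Equiv.swap_apply_left, Fin.val_castSucc, Fin.val_succ] at hl1 hl2
        omega
      · simp only [τ, Equiv.swap_apply_of_ne_of_ne hi2 hi1] at hl1 hl2
        omega
  refine ⟨g⁻¹ * red g * s, Subgroup.mul_mem _ (parabolic_mono (Finset.empty_subset J) (red_mem g)) hs, ?_⟩
  have hcol : ∀ a j, (red g * s).1 a j = (red g).1 a (τ j) := fun a j => by
    show ((red g).1 * τ.permMatrix F) a j = _
    rw [Equiv.Perm.permMatrix, PEquiv.mul_toMatrix_toPEquiv]
    simp [Matrix.submatrix, τ, Equiv.symm_swap]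
  have hpiv : ∀ j, piv (red g * s) j = perm g (τ j) := fun j =>
    piv_eq _ (by rw [hcol]; exact piv_spec (red g) _) fun a ha => le_piv _ (by rwa [hcol] at ha)
  have hred : Reduced (red g * s) := fun a b hab => by
    rw [hpiv, hpiv] at hab
    exact τ.injective (red_reduced g hab)
  rw [show g * (g⁻¹ * red g * s) = red g * s by group]
  have hΨ : Ψ (red g * s) = ∑ j, j.val * (perm g (τ j)).val := by
    have e : perm (red g * s) = piv (red g * s) :=
      perm_of_reduced hred (by rw [inv_mul_cancel]; exact Subgroup.one_mem _)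
    simp only [Ψ, e, hpiv]
  rw [hΨ, Ψ]
  have hle : perm g k.succ < perm g k.castSucc := by
    refine lt_of_le_of_ne (not_lt.1 fun h => hk (mem_filter.2 ⟨mem_univ k, h⟩)) fun h => ?_
    have := congrArg Fin.val (red_reduced g h)
    simp at this
  have hne : k.castSucc ≠ k.succ := fun h => by simpa using congrArg Fin.val h
  rw [← Finset.add_sum_erase _ _ (mem_univ k.castSucc), ← Finset.add_sum_erase _ _ (mem_univ k.castSucc),
    ← Finset.add_sum_erase _ _ (mem_erase.2 ⟨hne.symm, mem_univ k.succ⟩),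
    ← Finset.add_sum_erase _ _ (mem_erase.2 ⟨hne.symm, mem_univ k.succ⟩)]
  have hrest : ∑ j ∈ (univ.erase k.castSucc).erase k.succ, j.val * (perm g (τ j)).val =
      ∑ j ∈ (univ.erase k.castSucc).erase k.succ, j.val * (perm g j).val := by
    refine Finset.sum_congr rfl fun j hj => ?_
    simp only [mem_erase] at hj
    rw [Equiv.swap_apply_of_ne_of_ne hj.2.1 hj.1]
  rw [hrest]
  simp only [τ, Equiv.swap_apply_left, Equiv.swap_apply_right, Fin.val_castSucc, Fin.val_succ,
    add_mul, one_mul]
  have : (perm g k.succ).val < (perm g k.castSucc).val := hle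
  omega

/-- Equal flags have equal statistics. -/
theorem Ψ_mul {g b : GL (Fin (m + 1)) F} (hb : b ∈ parabolic F (∅ : Finset (Fin m))) :
    Ψ (g * b) = Ψ g := by
  have : perm (g * b) = perm g := by
    refine perm_of_reduced (red_reduced g) ?_
    rw [_root_.mul_inv_rev, mul_assoc]
    exact Subgroup.mul_mem _ (Subgroup.inv_mem _ hb) (red_mem g)
  simp [Ψ, this]

end Groth.Agent.ParabolicComplexLib
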