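import Groth.Agent.ParabolicComplexLib.Basis

/-!
# Exactness of the parabolic permutation complex
-/

set_option autoImplicit false

open Finset

namespace Groth.Agent.ParabolicComplexLib

open W4c3dlvarstrsh

variable {F : Type*} [Field F] {R : Type*} [CommRing R] {m r : ℕ}

theorem sgn_sq (T : Finset (Fin r)) (a : Fin r) : (sgn T a : R) * sgn T a = 1 := by
  rw [← Int.cast_mul, sgn, ← pow_add, Even.neg_one_pow ⟨_, rfl⟩, Int.cast_one]

theorem sgn_swap {T₀ : Finset (Fin r)} {i u : Fin r} (hi : i ∉ T₀) (hu : u ∉ T₀) (h : i ≠ u) :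
    (sgn (insert u T₀) i : R) * sgn (insert i T₀) u = -((sgn T₀ u : R) * sgn T₀ i) := by
  simp only [sgn, Finset.filter_insert]
  rcases lt_or_gt_of_ne h with h' | h'
  · rw [if_neg h'.not_gt, if_pos h', Finset.card_insert_of_notMem (by simp [hi])]
    push_cast
    ring
  · rw [if_pos h', if_neg h'.not_gt, Finset.card_insert_of_notMem (by simp [hu])]
    push_cast
    ring

/-- The signed sum of the values on the one-letter extensions. -/
def sdelta (a : Finset (Fin r) → R) (T : Finset (Fin r)) : R :=
  ∑ i : Fin r, if i ∉ T then (sgn T i : R) * a (insert i T) else 0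

/-- The simplex is acyclic. -/
theorem exists_homotopy (U : Finset (Fin r)) (c : ℕ) (a : Finset (Fin r) → R)
    (ha : ∀ T, a T ≠ 0 → T ⊆ U) (hd : ∀ T : Finset (Fin r), T.card = c → sdelta a T = 0) :
    ∃ b : Finset (Fin r) → R, (∀ T, b T ≠ 0 → T ⊆ U) ∧
      ∀ T : Finset (Fin r), T.card = c + 1 → sdelta b T = a T := by
  classical
  rcases U.eq_empty_or_nonempty with hU | ⟨u, hu⟩
  · refine ⟨0, fun T h => absurd rfl h, fun T hT => ?_⟩
    have : a T = 0 := by
      by_contra h
      have h1 := ha T h
      rw [hU, Finset.subset_empty] at h1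
      simp [h1] at hT
    simp [sdelta, this]
  refine ⟨fun T => if u ∈ T then (sgn (T.erase u) u : R) * a (T.erase u) else 0, fun T h => ?_,
    fun T hT => ?_⟩
  · by_cases hm : u ∈ T
    · simp only [if_pos hm] at h
      rw [← Finset.insert_erase hm]
      exact Finset.insert_subset hu (ha _ (right_ne_zero_of_mul h))
    · simp [hm] at h
  by_cases hm : u ∈ T
  · set T₀ := T.erase u with hT₀
    have hu0 : u ∉ T₀ := Finset.notMem_erase u T
    have hT0 : T = insert u T₀ := (Finset.insert_erase hm).symm
    have h0 : sdelta a T₀ = 0 := hd _ (by rw [hT₀, Finset.card_erase_of_mem hm, hT]; omega)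
    have key : ∀ i : Fin r,
        (if i ∉ T then (sgn T i : R) * (if u ∈ insert i T then
          (sgn ((insert i T).erase u) u : R) * a ((insert i T).erase u) else 0) else 0) =
        (if i = u then a T else 0) -
          (sgn T₀ u : R) * (if i ∉ T₀ then (sgn T₀ i : R) * a (insert i T₀) else 0) := by
      intro i
      rcases eq_or_ne i u with rfl | hiu
      · rw [if_neg (not_not.2 hm), if_pos rfl, if_pos hu0, ← hT0, ← mul_assoc, sgn_sq, one_mul,
          sub_self]
      · rw [if_neg hiu]
        by_cases hi : i ∈ T₀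
        · have : i ∈ T := (Finset.mem_erase.1 hi).2
          rw [if_neg (not_not.2 this), if_neg (not_not.2 hi)]
          ring
        · have hiT : i ∉ T := fun h => hi (Finset.mem_erase.2 ⟨hiu, h⟩)
          have he : (insert i T).erase u = insert i T₀ := by
            rw [Finset.erase_insert_of_ne hiu, hT₀]
          rw [if_pos hiT, if_pos hi, if_pos (Finset.mem_insert_of_mem hm), he, ← mul_assoc]
          nth_rw 1 [hT0]
          rw [sgn_swap hi hu0 hiu]
          ring
    show ∑ i, _ = _
    rw [Finset.sum_congr rfl fun i _ => key i, Finset.sum_sub_distrib, ← Finset.mul_sum]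
    show _ - _ * sdelta a T₀ = _
    simp [h0]
  · show ∑ i, _ = _
    rw [Finset.sum_eq_single u]
    · dsimp only
      rw [if_pos hm, if_pos (Finset.mem_insert_self u T), Finset.erase_insert hm, ← mul_assoc,
        sgn_sq, one_mul]
    · intro i _ hi
      have : u ∉ insert i T := by simp [hm, Ne.symm hi]
      simp [this]
    · exact fun h => absurd (mem_univ u) h

/-- A family extended by zero to subsets of any size. -/
def ext0 {c : ℕ} (f : Cochain F R (m := m) r c) (g : GL (Fin (m + 1)) F) (T : Finset (Fin r)) : R :=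
  if h : T.card = c then f ⟨T, h⟩ g else 0

theorem delta_eq {c : ℕ} (f : Cochain F R (m := m) r (c + 1)) (T : {T : Finset (Fin r) // T.card = c})
    (g : GL (Fin (m + 1)) F) : delta c f T g = sdelta (ext0 f g) T.1 := by
  refine Finset.sum_congr rfl fun i _ => ?_
  by_cases h : i ∉ T.1
  · rw [dif_pos h, if_pos h, ext0, dif_pos (by rw [Finset.card_insert_of_notMem h, T.2])]
  · rw [dif_neg h, if_neg h]

theorem delta_zero (c : ℕ) : delta (F := F) (R := R) (m := m) (r := r) c 0 = 0 := by
  funext T g
  simp [delta]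

theorem delta_add (c : ℕ) (f g : Cochain F R (m := m) r (c + 1)) :
    delta c (f + g) = delta c f + delta c g := by
  funext T x
  simp only [delta, Pi.add_apply, ← Finset.sum_add_distrib]
  refine Finset.sum_congr rfl fun i _ => ?_
  split_ifs <;> simp [mul_add]

theorem delta_sub (c : ℕ) (f g : Cochain F R (m := m) r (c + 1)) :
    delta c (f - g) = delta c f - delta c g := by
  rw [eq_sub_iff_add_eq, ← delta_add, sub_add_cancel]

theorem delta_delta (c : ℕ) (f : Cochain F R (m := m) r (c + 2)) :
    delta c (delta (c + 1) f) = 0 := by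
  classical
  funext T g
  rw [delta_eq]
  show ∑ i : Fin r, _ = 0
  have h1 : ∀ i : Fin r, (if i ∉ T.1 then (sgn T.1 i : R) * ext0 (delta (c + 1) f) g (insert i T.1) else 0)
      = ∑ j : Fin r, if i ∉ T.1 ∧ j ∉ T.1 ∧ j ≠ i then
          (sgn T.1 i : R) * sgn (insert i T.1) j * ext0 f g (insert j (insert i T.1)) else 0 := by
    intro i
    by_cases hi : i ∉ T.1
    · rw [if_pos hi, ext0, dif_pos (by rw [Finset.card_insert_of_notMem hi, T.2]), delta_eq,
        sdelta, Finset.mul_sum]
      refine Finset.sum_congr rfl fun j _ => ?_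
      by_cases hj : j ∉ insert i T.1
      · rw [if_pos hj, if_pos ⟨hi, fun h => hj (Finset.mem_insert_of_mem h),
          fun h => hj (h ▸ Finset.mem_insert_self i T.1)⟩, mul_assoc]
      · rw [if_neg hj, if_neg (fun h => hj (by simp [h.2.1, h.2.2])), mul_zero]
    · simp [hi]
  simp only [h1]
  rw [← Finset.sum_product']
  refine Finset.sum_involution (fun p _ => (p.2, p.1)) ?_ ?_ (fun _ _ => mem_univ _) (fun _ _ => rfl)
  · rintro ⟨i, j⟩ -
    by_cases h : i ∉ T.1 ∧ j ∉ T.1 ∧ j ≠ i
    · rw [if_pos h, if_pos ⟨h.2.1, h.1, h.2.2.symm⟩, Finset.insert_comm i j]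
      have e := sgn_swap (R := R) h.2.1 h.1 h.2.2
      have q1 := sgn_sq (R := R) T.1 i
      have q2 := sgn_sq (R := R) (insert j T.1) i
      -- the two signs cancel
      have : (sgn T.1 i : R) * sgn (insert i T.1) j + sgn T.1 j * sgn (insert j T.1) i = 0 := by
        calc _ = (sgn T.1 i : R) * sgn (insert i T.1) j * ((sgn (insert j T.1) i : R) * sgn (insert j T.1) i)
              + sgn T.1 j * sgn (insert j T.1) i := by rw [q2, mul_one]
          _ = (sgn T.1 i : R) * ((sgn (insert i T.1) j : R) * sgn (insert j T.1) i) * sgn (insert j T.1) i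
              + sgn T.1 j * sgn (insert j T.1) i := by ring
          _ = _ := by
            rw [e]
            linear_combination -((sgn T.1 j : R) * sgn (insert j T.1) i) * q1
      linear_combination (ext0 f g (insert j (insert i T.1))) * this
    · have h' : ¬(j ∉ T.1 ∧ i ∉ T.1 ∧ i ≠ j) := fun hh => h ⟨hh.2.1, hh.1, hh.2.2.symm⟩
      rw [if_neg h, if_neg h', add_zero]
  · rintro ⟨i, j⟩ - hne he
    simp only [Prod.mk.injEq] at he
    exact hne (if_neg fun h => h.2.2 he.1)

variable [Fintype F]

open Classical in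
/-- The indicator function of `x P_J`. -/
noncomputable def phi (J : Finset (Fin m)) (x g : GL (Fin (m + 1)) F) : R :=
  if x⁻¹ * g ∈ parabolic F J then 1 else 0

theorem exact (ω : Fin r ↪ Fin m) (c : ℕ) (f : Cochain F R (m := m) r (c + 1))
    (hf : IsInduced ω f) (hd : delta c f = 0) :
    ∃ g : Cochain F R (m := m) r (c + 2), IsInduced ω g ∧ delta (c + 1) g = f := by
  classical
  have : Fintype (GL (Fin (m + 1)) F) := Fintype.ofFinite _
  -- the down-closure of the support
  let D : Cochain F R (m := m) r (c + 1) → Finset (GL (Fin (m + 1)) F) := fun f =>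
    univ.filter fun x => ∃ T y, f T y ≠ 0 ∧ (x = y ∨ Ψ x < Ψ y)
  induction hn : (D f).card using Nat.strong_induction_on generalizing f with
  | _ N ih =>
    subst hn
    by_cases hz : f = 0
    · exact ⟨0, fun _ _ _ _ => rfl, by rw [hz]; exact delta_zero _⟩
    have hex : (univ.filter fun x => ∃ T, f T x ≠ 0).Nonempty := by
      obtain ⟨T, hT⟩ := Function.ne_iff.1 hz
      obtain ⟨x, hx⟩ := Function.ne_iff.1 hT
      exact ⟨x, mem_filter.2 ⟨mem_univ x, T, hx⟩⟩
    obtain ⟨x, hx, hmax⟩ := Finset.exists_max_image _ Ψ hex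
    obtain ⟨T₁, hT₁⟩ := (mem_filter.1 hx).2
    have hmax' : ∀ T y, f T y ≠ 0 → Ψ y ≤ Ψ x := fun T y h => hmax y (mem_filter.2 ⟨mem_univ y, T, h⟩)
    set U : Finset (Fin r) := univ.filter fun i => ω i ∈ asc x with hU
    have hasc : ∀ T : Finset (Fin r), ext0 f x T ≠ 0 → T ⊆ U := fun T hT => by
      by_cases hc : T.card = c + 1
      · rw [ext0, dif_pos hc] at hT
        have hsub : T.map ω ⊆ asc x := by
          by_contra h
          obtain ⟨p, hp, hlt⟩ := exists_lt_of_not_subset h
          exact (hmax' ⟨T, hc⟩ _ (by rwa [hf ⟨T, hc⟩ x p hp])).not_gt hlt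
        exact fun i hi => mem_filter.2 ⟨mem_univ i, hsub (Finset.mem_map_of_mem ω hi)⟩
      · rw [ext0, dif_neg hc] at hT
        exact absurd rfl hT
    obtain ⟨b, hb, hbd⟩ := exists_homotopy U c (ext0 f x) hasc fun T hT => by
      rw [← delta_eq f ⟨T, hT⟩ x, hd]
      rfl
    let g₁ : Cochain F R (m := m) r (c + 2) := fun T y => b T.1 * phi (asc x) x y
    have hg₁ : IsInduced ω g₁ := fun T y p hp => by
      rcases eq_or_ne (b T.1) 0 with h0 | h0
      · simp [g₁, h0]
      · have hp' : p ∈ parabolic F (asc x) := parabolic_mono (fun k hk => by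
          obtain ⟨i, hi, rfl⟩ := Finset.mem_map.1 hk
          exact (mem_filter.1 (hb T.1 h0 hi)).2) hp
        have : x⁻¹ * (y * p) ∈ parabolic F (asc x) ↔ x⁻¹ * y ∈ parabolic F (asc x) := by
          rw [← mul_assoc]
          exact Subgroup.mul_mem_cancel_right _ hp'
        simp only [g₁, phi, this]
    have hdg : ∀ T y, delta (c + 1) g₁ T y = f T x * phi (asc x) x y := fun T y => by
      rw [delta_eq, show f T x = ext0 f x T.1 by rw [ext0, dif_pos T.2], ← hbd T.1 T.2, sdelta,
        sdelta, Finset.sum_mul]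
      refine Finset.sum_congr rfl fun i _ => ?_
      by_cases hi : i ∉ T.1
      · rw [if_pos hi, if_pos hi, ext0, dif_pos (by rw [Finset.card_insert_of_notMem hi, T.2])]
        simp only [g₁, mul_assoc]
      · rw [if_neg hi, if_neg hi, zero_mul]
    set f' := f - delta (c + 1) g₁ with hf'
    have hsup : ∀ T y, f' T y ≠ 0 → Ψ y ≤ Ψ x ∧ y ≠ x := by
      intro T y h
      simp only [hf', Pi.sub_apply, hdg] at h
      by_cases hmem : x⁻¹ * y ∈ parabolic F (asc x)
      · by_cases hB : x⁻¹ * y ∈ parabolic F (∅ : Finset (Fin m))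
        · exfalso
          have e : f T y = f T x := by
            have := hf T x (x⁻¹ * y) (parabolic_mono (Finset.empty_subset _) hB)
            rwa [mul_inv_cancel_left] at this
          simp [phi, hmem, e] at h
        · exact ⟨(Ψ_lt hmem hB).le, fun e => hB (by rw [e, inv_mul_cancel]; exact Subgroup.one_mem _)⟩
      · simp only [phi, if_neg hmem, mul_zero, sub_zero] at h
        exact ⟨hmax' T y h, fun e => hmem (by rw [e, inv_mul_cancel]; exact Subgroup.one_mem _)⟩
    have hlt : (D f').card < (D f).card := by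
      refine Finset.card_lt_card ⟨fun z hz' => ?_, fun hsub => ?_⟩
      · obtain ⟨T, y, hy, hzy⟩ := (mem_filter.1 hz').2
        refine mem_filter.2 ⟨mem_univ z, ?_⟩
        obtain ⟨hle, -⟩ := hsup T y hy
        rcases hzy with rfl | hlt'
        · rcases hle.eq_or_lt with heq | hlt'
          · -- a top point of the new support was in the old support
            have : ¬ x⁻¹ * z ∈ parabolic F (asc x) := fun hmem => by
              by_cases hB : x⁻¹ * z ∈ parabolic F (∅ : Finset (Fin m))
              · have e : f T z = f T x := by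
                  have := hf T x (x⁻¹ * z) (parabolic_mono (Finset.empty_subset _) hB)
                  rwa [mul_inv_cancel_left] at this
                simp [hf', hdg, phi, hmem, e] at hy
              · exact (Ψ_lt hmem hB).ne heq
            exact ⟨T, z, by simpa [hf', hdg, phi, this] using hy, Or.inl rfl⟩
          · exact ⟨T₁, x, hT₁, Or.inr hlt'⟩
        · exact ⟨T₁, x, hT₁, Or.inr (hlt'.trans_le hle)⟩
      · have hxD : x ∈ D f := mem_filter.2 ⟨mem_univ x, T₁, x, hT₁, Or.inl rfl⟩
        obtain ⟨T, y, hy, hxy⟩ := (mem_filter.1 (hsub hxD)).2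
        obtain ⟨hle, hne⟩ := hsup T y hy
        rcases hxy with h | h
        · exact hne h.symm
        · exact hle.not_gt h
    have hf'ind : IsInduced ω f' := fun T y p hp => by
      simp only [hf', Pi.sub_apply, hf T y p hp, hdg]
      rcases eq_or_ne (f T x) 0 with h0 | h0
      · rw [h0, zero_mul, zero_mul]
      · have hp' : p ∈ parabolic F (asc x) := parabolic_mono (fun k hk => by
          obtain ⟨i, hi, rfl⟩ := Finset.mem_map.1 hk
          exact (mem_filter.1 (hasc T.1 (by rwa [ext0, dif_pos T.2]) hi)).2) hp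
        have : x⁻¹ * (y * p) ∈ parabolic F (asc x) ↔ x⁻¹ * y ∈ parabolic F (asc x) := by
          rw [← mul_assoc]
          exact Subgroup.mul_mem_cancel_right _ hp'
        simp only [phi, this]
    obtain ⟨g₂, hg₂, hg₂d⟩ := ih _ hlt f' hf'ind (by rw [hf', delta_sub, hd, delta_delta, sub_zero]) rfl
    refine ⟨g₁ + g₂, fun T y p hp => ?_, by rw [delta_add, hg₂d, hf', add_sub_cancel]⟩
    simp only [Pi.add_apply, hg₁ T y p hp, hg₂ T y p hp]

end Groth.Agent.ParabolicComplexLib
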